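import Cfsg.Agent.Lib.CharApps.SmallCentralizer.CentralQuotient
import Cfsg.Agent.Lib.BlockOrth.Subsection
import Cfsg.Agent.Lib.Blocks.QuotientDefect
import Cfsg.Agent.Lib.Blocks.QuotientP

/-!
# The `p`-regular rank of a block over a central `p`-subgroup
-/

set_option autoImplicit false
set_option linter.style.haveILetI false
set_option linter.unusedSectionVars false

namespace CfsgLib.AbelianDefectBound

open Cfsg CfsgLib.Chars CfsgLib.Blocks CfsgLib.BlockOrth CfsgLib.SmallCentralizer Finset
open scoped ComplexConjugate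

universe u

variable {H : Type u} [Group H] [Fintype H] {N : Subgroup H} [N.Normal] [Fintype (H ⧸ N)]
  {M : Ideal AlgInt} [M.IsPrime] {p : ℕ} [Fact p.Prime] {b : Set (IrrCharacter H)}
  {bbar : Set (IrrCharacter (H ⧸ N))}

/-- A character of the quotient inflates into `b` exactly when it lies in the block below `b`. -/
theorem inflIrr_mem_iff (hpM : (p : AlgInt) ∈ M) (hN : N ≤ Subgroup.center H) (hp : IsPGroup p N)
    (hb : IsPBlock M b) (hbbar : IsPBlock M bbar) (hsub : ∀ η ∈ bbar, inflIrr N η ∈ b)
    (η : IrrCharacter (H ⧸ N)) : inflIrr N η ∈ b ↔ η ∈ bbar := by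
  refine ⟨fun h => ?_, hsub η⟩
  obtain ⟨ψ, hψ⟩ := IsPBlock.nonempty hbbar
  have hk : (Subgroup.centralizer (N : Set H)).index = p ^ 0 := by
    rw [pow_zero, Subgroup.index_eq_one, eq_top_iff]
    exact fun c _ => Subgroup.mem_centralizer_iff.2 fun n hn =>
      ((Subgroup.mem_center_iff.1 (hN hn)) c).symm
  have h2 : SameBlock M (ψ : H ⧸ N → ℂ) (η : H ⧸ N → ℂ) :=
    (sameBlock_inflate_iff hpM hp hk ψ η).2 (IsPBlock.sameBlock hb (hsub ψ hψ) h)
  rw [IsPBlock.eq_blockOf hbbar hψ]
  exact h2

/-- The regular part of an inflated function, as a linear map. -/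
noncomputable def regInfl (p : ℕ) (N : Subgroup H) [N.Normal] : (H ⧸ N → ℂ) →ₗ[ℂ] (H → ℂ) where
  toFun f := pRegularPart p (f ∘ QuotientGroup.mk)
  map_add' f g := by
    funext h
    simp only [pRegularPart_apply, Function.comp_apply, Pi.add_apply]
    split_ifs <;> simp
  map_smul' c f := by
    funext h
    simp only [pRegularPart_apply, Function.comp_apply, Pi.smul_apply, RingHom.id_apply,
      smul_eq_mul]
    split_ifs <;> simp

theorem regInfl_pRegularPart (f : H ⧸ N → ℂ) :
    regInfl p N (pRegularPart p f) = regInfl p N f := by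
  funext h
  show pRegularPart p (pRegularPart p f ∘ QuotientGroup.mk) h =
    pRegularPart p (f ∘ QuotientGroup.mk) h
  simp only [pRegularPart_apply, Function.comp_apply]
  by_cases hh : p ∣ orderOf h
  · simp [hh]
  · simp [hh, regular_mk hh]

theorem regInfl_transfer (hN : N ≤ Subgroup.center H) (hp : IsPGroup p N) (f : H → ℂ) :
    regInfl p N (transfer p f) = pRegularPart p f := by
  funext h
  show pRegularPart p (transfer p f ∘ QuotientGroup.mk) h = _
  simp only [pRegularPart_apply, Function.comp_apply]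
  by_cases hh : p ∣ orderOf h
  · simp [hh]
  · simp [hh, transfer_regular hN hp f hh]

theorem regInfl_eq_zero_iff (f : H ⧸ N → ℂ) :
    regInfl p N f = 0 ↔ ∀ q : H ⧸ N, ¬ p ∣ orderOf q → f q = 0 := by
  constructor
  · intro h q hq
    obtain ⟨y, hy, rfl⟩ := exists_regular_lift q hq
    have h1 := congrFun h y
    change pRegularPart p (f ∘ QuotientGroup.mk) y = 0 at h1
    rwa [pRegularPart_apply, if_pos hy] at h1
  · intro h
    funext y
    show pRegularPart p (f ∘ QuotientGroup.mk) y = 0
    rw [pRegularPart_apply]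
    split_ifs with hy
    · rfl
    · exact h _ (regular_mk hy)

/-- The regular parts of the members of `b` come from the block below. -/
theorem span_regular_eq (hpM : (p : AlgInt) ∈ M) (hN : N ≤ Subgroup.center H) (hp : IsPGroup p N)
    (hb : IsPBlock M b) (hbbar : IsPBlock M bbar) (hsub : ∀ η ∈ bbar, inflIrr N η ∈ b) :
    Submodule.span ℂ ((fun θ : IrrCharacter H => pRegularPart p (θ : H → ℂ)) '' b) =
      (Submodule.span ℂ ((fun η : IrrCharacter (H ⧸ N) => pRegularPart p (η : H ⧸ N → ℂ)) '' bbar)).map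
        (regInfl p N) := by
  classical
  haveI := irrFintype (H ⧸ N)
  refine le_antisymm (Submodule.span_le.2 ?_) ?_
  · rintro _ ⟨θ, hθ, rfl⟩
    set f := pRegularPart p (transfer p (θ : H → ℂ) (N := N)) with hf
    refine ⟨f, ?_, by rw [hf, regInfl_pRegularPart, regInfl_transfer hN hp]⟩
    have hfcl : IsClassFunction (H ⧸ N) f :=
      isClassFunction_pRegularPart (isClassFunction_transfer hN hp (isClassFunction_irr θ))
    have hzero : ∀ η, η ∉ bbar → classInner f (η : H ⧸ N → ℂ) = 0 := by
      intro η hη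
      have h := pInt_spec (p := p) θ (inflIrr N η)
      rw [pInt_eq_zero hpM hb hθ (fun h => hη ((inflIrr_mem_iff hpM hN hp hb hbbar hsub η).1 h)),
        pInner, Int.cast_zero] at h
      have h0 := (mul_eq_zero.mp h).resolve_left (by simp [(Fact.out : p.Prime).ne_zero])
      rw [hf, ← card_mul_inner_inflate hN hp]
      exact (congrArg (_ * ·) h0).trans (mul_zero _)
    have e1 : f = ∑ η ∈ univ.filter (· ∈ bbar),
        classInner f (η : H ⧸ N → ℂ) • pRegularPart p (η : H ⧸ N → ℂ) := by
      conv_lhs => rw [hf, ← pRegularPart_pRegularPart, ← hf, classFun_eq_sum hfcl]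
      rw [pRegularPart_sum]
      simp only [pRegularPart_smul]
      refine (Finset.sum_subset (Finset.subset_univ _) fun η _ hη => ?_).symm
      rw [hzero η (by simpa using hη), zero_smul]
    rw [e1]
    exact Submodule.sum_mem _ fun η hη => Submodule.smul_mem _ _
      (Submodule.subset_span ⟨η, (mem_filter.1 hη).2, rfl⟩)
  · rw [Submodule.map_span, Submodule.span_le]
    rintro _ ⟨_, ⟨η, hη, rfl⟩, rfl⟩
    rw [regInfl_pRegularPart]
    exact Submodule.subset_span ⟨inflIrr N η, hsub η hη, rfl⟩

/-- A central `p`-subgroup does not change the `p`-regular rank of a block. -/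
theorem blockRank_eq_quotient (hpM : (p : AlgInt) ∈ M) (hN : N ≤ Subgroup.center H)
    (hp : IsPGroup p N) (hb : IsPBlock M b) (hbbar : IsPBlock M bbar)
    (hsub : ∀ η ∈ bbar, inflIrr N η ∈ b) : blockRank p b = blockRank p bbar := by
  unfold blockRank
  rw [span_regular_eq hpM hN hp hb hbbar hsub]
  set S := Submodule.span ℂ
    ((fun η : IrrCharacter (H ⧸ N) => pRegularPart p (η : H ⧸ N → ℂ)) '' bbar) with hS
  have hsupp : ∀ f ∈ S, ∀ q : H ⧸ N, p ∣ orderOf q → f q = 0 := by
    intro f hf q hq
    induction hf using Submodule.span_induction with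
    | mem x hx =>
      obtain ⟨η, -, rfl⟩ := hx
      show pRegularPart p (η : H ⧸ N → ℂ) q = 0
      rw [pRegularPart_apply, if_neg (not_not.2 hq)]
    | zero => rfl
    | add x y _ _ hx hy => rw [Pi.add_apply, hx, hy, add_zero]
    | smul c x _ hx => rw [Pi.smul_apply, hx, smul_zero]
  have hinj : Function.Injective ((regInfl p N).domRestrict S) := by
    intro v w e
    refine Subtype.ext (funext fun q => ?_)
    by_cases hq : p ∣ orderOf q
    · rw [hsupp _ v.2 q hq, hsupp _ w.2 q hq]
    · have h0 : regInfl p N ((v : H ⧸ N → ℂ) - w) = 0 := by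
        rw [map_sub]; exact sub_eq_zero.2 e
      exact sub_eq_zero.1 ((regInfl_eq_zero_iff _).1 h0 q hq)
  rw [← LinearMap.finrank_range_of_inj hinj, LinearMap.range_domRestrict]

end CfsgLib.AbelianDefectBound
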