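import Cfsg.Agent.Lib.CharApps.AbelianDefectBound.QuotientRank
import Cfsg.Agent.Lib.CharApps.SmallCentralizer.Main
import Cfsg.Agent.Lib.BlockOrth.MajorSubsection
import Cfsg.Agent.Lib.Blocks.TrivialInertia

/-!
# A major subsection with a cyclic quotient

The block of `C(x) / ⟨x⟩` has a family `X` of `e` characters and a family `Y` of `m` characters
agreeing at regular elements, `m * e + 1 = q`. The regular Gram matrix of `X` is then forced to be
`1 - (m / q) J`, and the Galois average of the norm of each character is at least `q * e`.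
-/

set_option autoImplicit false
set_option linter.style.haveILetI false
set_option linter.unusedSectionVars false

namespace CfsgLib.AbelianDefectBound

open Cfsg CfsgLib.Chars CfsgLib.Blocks CfsgLib.BlockOrth CfsgLib.CharApps CfsgLib.SmallCentralizer
  Finset
open scoped ComplexConjugate IntermediateField

universe u

/-- An element with integral multiple by a power of `p`, local at every maximal ideal over `p`, is
integral. -/
theorem isIntegral_of_pow_mul {p : ℕ} : ∀ (k : ℕ) (z : ℂ), IsIntegral ℤ ((p : ℂ) ^ k * z) →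
    (∀ M : Ideal AlgInt, ∀ [M.IsMaximal], (p : AlgInt) ∈ M → z ∈ loc M) → IsIntegral ℤ z := by
  intro k
  induction k with
  | zero => intro z h _; simpa using h
  | succ k ih =>
    intro z h hloc
    refine isIntegral_of_mem_loc (p := p) (ih ((p : ℂ) * z) ?_ ?_) hloc
    · rwa [← mul_assoc, ← pow_succ]
    · intro M _ hpM
      haveI : M.IsPrime := Ideal.IsMaximal.isPrime inferInstance
      exact mul_mem (natCast_mem _ _) (hloc M hpM)

/-- An idempotent matrix of full trace is the identity. -/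
theorem eq_one_of_idem_trace {I : Type*} [Fintype I] [DecidableEq I] (E : Matrix I I ℂ)
    (hE : E * E = E) (htr : E.trace = Fintype.card I) : E = 1 := by
  set F : Matrix I I ℂ := 1 - E with hF
  have hFF : F * F = F := by
    rw [hF, Matrix.sub_mul, Matrix.mul_sub, Matrix.mul_sub, hE]
    simp
  have hFtr : F.trace = 0 := by
    rw [hF, Matrix.trace_sub, Matrix.trace_one, htr, sub_self]
  have hproj : LinearMap.IsProj (LinearMap.range (Matrix.toLin' F)) (Matrix.toLin' F) := by
    refine ⟨fun v => LinearMap.mem_range_self _ v, ?_⟩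
    rintro v ⟨w, rfl⟩
    rw [← LinearMap.comp_apply, ← Matrix.toLin'_mul, hFF]
  have h0 := hproj.trace
  rw [LinearMap.trace_eq_matrix_trace ℂ (Pi.basisFun ℂ I), LinearMap.toMatrix_eq_toMatrix',
    LinearMap.toMatrix'_toLin', hFtr] at h0
  have h1 : LinearMap.range (Matrix.toLin' F) = ⊥ :=
    Submodule.finrank_eq_zero.1 (by exact_mod_cast h0.symm)
  have h2 : F = 0 := Matrix.toLin'.injective (by rw [LinearMap.range_eq_bot.1 h1, map_zero])
  exact (sub_eq_zero.1 h2).symm

section Block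

variable {K : Type u} [Group K] [Fintype K] {M : Ideal AlgInt} [M.IsPrime] {p : ℕ} [Fact p.Prime]
  {c : Set (IrrCharacter K)}

/-- Regular inner products at a block only see the block. -/
theorem inner_regular_eq_block_sum [Fintype (IrrCharacter K)] [DecidablePred (· ∈ c)]
    (hpM : (p : AlgInt) ∈ M) (hc : IsPBlock M c) {f : K → ℂ} (hf : IsClassFunction K f)
    {η : IrrCharacter K} (hη : η ∈ c) :
    classInner (pRegularPart p f) (η : K → ℂ) = ∑ θ ∈ univ.filter (· ∈ c),
      classInner f (θ : K → ℂ) * classInner (pRegularPart p (θ : K → ℂ)) (η : K → ℂ) := by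
  conv_lhs => rw [classFun_eq_sum hf, pRegularPart_sum, Chars.inner_sum_left]
  simp only [pRegularPart_smul, Chars.inner_smul_left]
  refine (Finset.sum_subset (Finset.subset_univ _) fun θ _ hθ => ?_).symm
  have h := pInt_spec (p := p) η θ
  rw [pInt_eq_zero hpM hc hη (by simpa using hθ), pInner, Int.cast_zero] at h
  have h0 := congrArg conj ((mul_eq_zero.mp h).resolve_left (by simp [(Fact.out : p.Prime).ne_zero]))
  rw [inner_conj, classInner_pRegularPart_right, map_zero] at h0
  rw [h0, mul_zero]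

open scoped Classical in
/-- The regular part of a member of the exceptional family. -/
theorem pRegularPart_of_rel {Y : Set (IrrCharacter K)} [Fintype (IrrCharacter K)]
    {δ : IrrCharacter K → ℤ} {δ₀ : ℤ} (hδ₀ : δ₀ = 1 ∨ δ₀ = -1)
    (hrel : ∀ ψ ∈ Y, ∀ g : K, ¬ p ∣ orderOf g → (δ₀ : ℂ) * (ψ : K → ℂ) g +
      ∑ᶠ χ ∈ c \ Y, (δ χ : ℂ) * (χ : K → ℂ) g = 0)
    {θ : IrrCharacter K} (hθ : θ ∈ Y) :
    pRegularPart p (θ : K → ℂ) = ∑ i : {η // η ∈ c \ Y},
      ((-δ₀ * δ i.1 : ℤ) : ℂ) • pRegularPart p (i.1 : K → ℂ) := by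
  funext g
  rw [Finset.sum_apply]
  simp only [Pi.smul_apply, smul_eq_mul, pRegularPart_apply]
  by_cases hg : p ∣ orderOf g
  · simp [hg]
  · simp only [hg, not_false_iff, if_true]
    have h := hrel θ hθ g hg
    rw [finsum_mem_eq_sum_of_inter_support_eq (t := univ.filter (· ∈ c \ Y)) _ (by ext; simp),
      Finset.sum_subtype (p := (· ∈ c \ Y)) _ (fun η => by simp)] at h
    have h2 : (δ₀ : ℂ) * δ₀ = 1 := by rcases hδ₀ with rfl | rfl <;> norm_num
    calc (θ : K → ℂ) g = (δ₀ : ℂ) * δ₀ * (θ : K → ℂ) g := by rw [h2, one_mul]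
      _ = -(δ₀ : ℂ) * ∑ i : {η // η ∈ c \ Y}, (δ i.1 : ℂ) * (i.1 : K → ℂ) g := by
          linear_combination (δ₀ : ℂ) * h
      _ = _ := by
          rw [Finset.mul_sum]
          refine Finset.sum_congr rfl fun i _ => ?_
          push_cast
          ring

open scoped Classical in
/-- The regular Gram matrix of the non-exceptional family. -/
theorem gram_eq (hpM : (p : AlgInt) ∈ M) (hc : IsPBlock M c) [Fintype (IrrCharacter K)]
    {Y : Set (IrrCharacter K)} (hY : Y ⊆ c) {m e q : ℕ} (hm : Nat.card Y = m)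
    (hX : Nat.card (c \ Y : Set (IrrCharacter K)) = e) (hqe : m * e + 1 = q)
    (hrank : blockRank p c = e) {δ : IrrCharacter K → ℤ} {δ₀ : ℤ}
    (hδ : ∀ χ ∈ c \ Y, δ χ = 1 ∨ δ χ = -1) (hδ₀ : δ₀ = 1 ∨ δ₀ = -1)
    (hrel : ∀ ψ ∈ Y, ∀ g : K, ¬ p ∣ orderOf g → (δ₀ : ℂ) * (ψ : K → ℂ) g +
      ∑ᶠ χ ∈ c \ Y, (δ χ : ℂ) * (χ : K → ℂ) g = 0)
    (i j : {η // η ∈ c \ Y}) :
    (δ i.1 : ℂ) * (δ j.1 : ℂ) * classInner (pRegularPart p (i.1 : K → ℂ)) (j.1 : K → ℂ) =
      (if i = j then 1 else 0) - (m : ℂ) / (q : ℂ) := by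
  let I := {η // η ∈ c \ Y}
  set R : I → I → ℂ := fun i j =>
    (δ i.1 : ℂ) * (δ j.1 : ℂ) * classInner (pRegularPart p (i.1 : K → ℂ)) (j.1 : K → ℂ) with hR
  show R i j = _
  have hsq : ∀ i : I, (δ i.1 : ℂ) * δ i.1 = 1 := fun i => by
    rcases hδ i.1 i.2 with h | h <;> rw [h] <;> norm_num
  have h00 : (δ₀ : ℂ) * δ₀ = 1 := by rcases hδ₀ with rfl | rfl <;> norm_num
  have hYl : ∀ θ ∈ Y, ∀ f : K → ℂ, classInner (pRegularPart p (θ : K → ℂ)) f =
      -(δ₀ : ℂ) * ∑ k : I, (δ k.1 : ℂ) * classInner (pRegularPart p (k.1 : K → ℂ)) f := by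
    intro θ hθ f
    rw [pRegularPart_of_rel hδ₀ hrel hθ, Chars.inner_sum_left, Finset.mul_sum]
    refine Finset.sum_congr rfl fun k _ => ?_
    rw [Chars.inner_smul_left]
    push_cast
    ring
  have hYr : ∀ θ ∈ Y, ∀ f : K → ℂ, classInner (pRegularPart p f) (θ : K → ℂ) =
      -(δ₀ : ℂ) * ∑ k : I, (δ k.1 : ℂ) * classInner (pRegularPart p f) (k.1 : K → ℂ) := by
    intro θ hθ f
    rw [← classInner_pRegularPart_right, pRegularPart_of_rel hδ₀ hrel hθ, Chars.inner_sum_right,
      Finset.mul_sum]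
    refine Finset.sum_congr rfl fun k _ => ?_
    rw [Chars.inner_smul_right, classInner_pRegularPart_right, map_intCast]
    push_cast
    ring
  have hsplit : ∀ F : IrrCharacter K → ℂ, ∑ θ ∈ univ.filter (· ∈ c), F θ =
      ∑ θ ∈ (univ.filter (· ∈ c)).filter (· ∈ Y), F θ + ∑ k : I, F k.1 := by
    intro F
    rw [← Finset.sum_filter_add_sum_filter_not (univ.filter (· ∈ c)) (· ∈ Y)]
    congr 1
    exact Finset.sum_subtype (p := (· ∈ c \ Y)) _ (fun η => by simp) F
  have hcardY : ((univ.filter (· ∈ c)).filter (· ∈ Y)).card = m := by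
    rw [← hm, Nat.card_eq_fintype_card, ← Set.toFinset_card]
    congr 1
    ext η
    simp only [mem_filter, mem_univ, true_and, Set.mem_toFinset]
    exact ⟨fun h => h.2, fun h => ⟨hY h, h⟩⟩
  -- the projection identity
  set r : I → ℂ := fun i => ∑ k, R i k with hr
  set s : I → ℂ := fun j => ∑ k, R k j with hs
  have hproj : ∀ i j : I, ∑ k, R i k * R k j + (m : ℂ) * (r i * s j) = R i j := by
    intro i j
    have h := inner_regular_eq_block_sum hpM hc
      (isClassFunction_pRegularPart (p := p) (isClassFunction_irr i.1)) j.2.1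
    rw [pRegularPart_pRegularPart, hsplit] at h
    have hYsum : ∑ θ ∈ (univ.filter (· ∈ c)).filter (· ∈ Y),
        classInner (pRegularPart p (i.1 : K → ℂ)) (θ : K → ℂ) *
          classInner (pRegularPart p (θ : K → ℂ)) (j.1 : K → ℂ) =
        (m : ℂ) * ((∑ k : I, (δ k.1 : ℂ) * classInner (pRegularPart p (i.1 : K → ℂ)) (k.1 : K → ℂ)) *
          ∑ k : I, (δ k.1 : ℂ) * classInner (pRegularPart p (k.1 : K → ℂ)) (j.1 : K → ℂ)) := by
      rw [Finset.sum_congr rfl fun θ hθ => by
          rw [hYr θ (mem_filter.1 hθ).2, hYl θ (mem_filter.1 hθ).2, mul_mul_mul_comm, neg_mul_neg,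
            h00, one_mul], Finset.sum_const, hcardY, nsmul_eq_mul]
    rw [hYsum] at h
    simp only [hr, hs, hR]
    rw [h, mul_add, add_comm]
    congr 1
    · simp only [Finset.sum_mul, Finset.mul_sum]
      refine Finset.sum_congr rfl fun k _ => Finset.sum_congr rfl fun l _ => ?_
      ring
    · rw [Finset.mul_sum]
      refine Finset.sum_congr rfl fun k _ => ?_
      calc _ = (δ i.1 : ℂ) * δ j.1 * ((δ k.1 : ℂ) * δ k.1) *
            (classInner (pRegularPart p (i.1 : K → ℂ)) (k.1 : K → ℂ) *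
              classInner (pRegularPart p (k.1 : K → ℂ)) (j.1 : K → ℂ)) := by ring
        _ = _ := by rw [hsq k]; ring
  -- the trace
  have htr : ∑ i : I, R i i + (m : ℂ) * ∑ i, r i = (e : ℂ) := by
    rw [← hrank, blockRank_eq_sum hpM hc, hsplit]
    refine Eq.trans (congrArg₂ (· + ·) ?_ ?_) (add_comm _ _)
    · refine Finset.sum_congr rfl fun k _ => ?_
      simp only [hR]
      rw [hsq, one_mul]
    · symm
      rw [Finset.sum_congr rfl fun θ hθ => by
          rw [hYl θ (mem_filter.1 hθ).2,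
            Finset.sum_congr rfl fun k (_ : k ∈ (univ : Finset I)) => by
              rw [hYr θ (mem_filter.1 hθ).2]],
        Finset.sum_const, hcardY, nsmul_eq_mul]
      congr 1
      simp only [hr, hR, Finset.mul_sum]
      refine Finset.sum_congr rfl fun k _ => Finset.sum_congr rfl fun l _ => ?_
      calc _ = (δ₀ : ℂ) * δ₀ * ((δ k.1 : ℂ) * δ l.1 *
            classInner (pRegularPart p (k.1 : K → ℂ)) (l.1 : K → ℂ)) := by ring
        _ = _ := by rw [h00, one_mul]
  -- the matrix `R (1 + m J)` is the identity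
  set E : Matrix I I ℂ := Matrix.of fun i j => R i j + (m : ℂ) * r i with hE
  have hrow : ∀ i : I, ∑ l, R i l * r l + (m : ℂ) * (r i * ∑ l, r l) = r i := by
    intro i
    conv_rhs => rw [hr]; simp only []; rw [← Finset.sum_congr rfl fun j _ => hproj i j]
    rw [Finset.sum_add_distrib, Finset.sum_comm]
    simp only [hr, hs, Finset.mul_sum]
    congr 1
    rw [Finset.sum_comm]
  have hEE : E * E = E := by
    ext i j
    simp only [hE, Matrix.mul_apply, Matrix.of_apply]
    calc ∑ l, (R i l + (m : ℂ) * r i) * (R l j + (m : ℂ) * r l)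
        = (∑ l, R i l * R l j + (m : ℂ) * (r i * s j)) +
            (m : ℂ) * (∑ l, R i l * r l + (m : ℂ) * (r i * ∑ l, r l)) := by
          simp only [hs, mul_add, Finset.mul_sum, ← Finset.sum_add_distrib]
          exact Finset.sum_congr rfl fun l _ => by ring
      _ = _ := by rw [hproj, hrow]
  have hcardI : Fintype.card I = e := by rw [← hX, Nat.card_eq_fintype_card]
  have hEtr : E.trace = Fintype.card I := by
    rw [hcardI, ← htr, Matrix.trace]
    simp [hE, Finset.sum_add_distrib, Finset.mul_sum]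
  have hE1 := eq_one_of_idem_trace E hEE hEtr
  have hq0 : (q : ℂ) ≠ 0 := by rw [Nat.cast_ne_zero]; omega
  have hq : (q : ℂ) = 1 + (m : ℂ) * e := by rw [← hqe]; push_cast; ring
  have hent : ∀ i j : I, R i j + (m : ℂ) * r i = if i = j then 1 else 0 := fun i j => by
    have h := congrFun (congrFun hE1 i) j
    simpa [hE, Matrix.one_apply] using h
  have hri : r i = 1 / (q : ℂ) := by
    rw [eq_div_iff hq0]
    have h := Finset.sum_congr rfl fun k (_ : k ∈ (univ : Finset I)) => hent i k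
    rw [Finset.sum_add_distrib, Finset.sum_const, Finset.card_univ, hcardI, nsmul_eq_mul,
      Finset.sum_ite_eq, if_pos (mem_univ i)] at h
    rw [hq]
    change ∑ k, R i k + _ = _ at h
    simp only [hr] at h ⊢
    linear_combination h
  have h := hent i j
  rw [hri] at h
  linear_combination h

end Block

section Main

variable {G : Type u} [Group G] [Fintype G] {M : Ideal AlgInt} [M.IsPrime] {p : ℕ} [Fact p.Prime]
  {H : Subgroup G} [Fintype H] {x : G} {N : Subgroup H} [N.Normal] [Fintype (H ⧸ N)]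
  {B : Set (IrrCharacter G)} {b : Set (IrrCharacter H)} {bbar : Set (IrrCharacter (H ⧸ N))}

/-- Some regular coefficient of a character at the block below is not zero. -/
theorem exists_xval_ne_zero (hM : IsPModular p M) (hH : ∀ c : G, c ∈ H ↔ c * x = x * c)
    (hx : ∃ k, orderOf x = p ^ k) (hind : IsInducedBlock M H b B)
    (hmaj : blockDefect p b = blockDefect p B) (hN : N ≤ Subgroup.center H) (hp : IsPGroup p N)
    (hbbar : IsPBlock M bbar) (hsub : ∀ η ∈ bbar, inflIrr N η ∈ b) {χ : IrrCharacter G}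
    (hχ : χ ∈ B) : ∃ η ∈ bbar, xval p H x N χ (η : H ⧸ N → ℂ) ≠ 0 := by
  classical
  haveI := irrFintype H
  have hpM := hM.2.2
  by_contra hcon
  push Not at hcon
  set f := secFun H x (χ : G → ℂ) with hf
  have h1 : ∀ η ∈ bbar, classInner (pRegularPart p f) ((η : H ⧸ N → ℂ) ∘ QuotientGroup.mk) = 0 := by
    intro η hη
    have h := hcon η hη
    rw [xval, pInner] at h
    exact (mul_eq_zero.mp h).resolve_left (by simp [(Fact.out : p.Prime).ne_zero])
  have h2 : ∀ θ ∈ b, classInner (pRegularPart p f) (θ : H → ℂ) = 0 := by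
    intro θ hθ
    have hmem : pRegularPart p (θ : H → ℂ) ∈ (Submodule.span ℂ
        ((fun η : IrrCharacter (H ⧸ N) => pRegularPart p (η : H ⧸ N → ℂ)) '' bbar)).map
          (regInfl p N) := by
      rw [← span_regular_eq hpM hN hp hind.1 hbbar hsub]
      exact Submodule.subset_span ⟨θ, hθ, rfl⟩
    rw [Submodule.map_span] at hmem
    have key : ∀ v ∈ Submodule.span ℂ (regInfl p N '' ((fun η : IrrCharacter (H ⧸ N) =>
        pRegularPart p (η : H ⧸ N → ℂ)) '' bbar)), classInner f v = 0 := by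
      intro v hv
      induction hv using Submodule.span_induction with
      | mem v hv =>
        obtain ⟨_, ⟨η, hη, rfl⟩, rfl⟩ := hv
        rw [regInfl_pRegularPart]
        show classInner f (pRegularPart p ((η : H ⧸ N → ℂ) ∘ QuotientGroup.mk)) = 0
        rw [classInner_pRegularPart_right]
        exact h1 η hη
      | zero => simp [inner_def]
      | add v w _ _ hv hw => rw [Chars.inner_add_right, hv, hw, add_zero]
      | smul a v _ hv => rw [Chars.inner_smul_right, hv, mul_zero]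
    have h := key _ hmem
    rwa [classInner_pRegularPart_right] at h
  obtain ⟨ψ, hψ, h0⟩ := exists_blockHeight_eq_zero (p := p) hind.2.1
  refine contrib_ne_zero_of_height_zero hpM hH hx hind hmaj hχ hψ h0 ?_
  rw [contrib_eq_inner hpM hH hind.1, Finset.sum_eq_zero fun η hη => ?_, mul_zero]
  rw [← hf, h2 η (mem_filter.1 hη).2, zero_mul]

set_option maxHeartbeats 1000000 in
/-- `k(B) ≤ p ^ d` at a major subsection whose quotient block has the structure of a block with
cyclic defect group. -/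
theorem card_le_of_cyclic_structure (hM : IsPModular p M) (hH : ∀ c : G, c ∈ H ↔ c * x = x * c)
    (hx : ∃ k, orderOf x = p ^ k) (hind : IsInducedBlock M H b B)
    (hmaj : blockDefect p b = blockDefect p B) (hN : N ≤ Subgroup.center H) (hp : IsPGroup p N)
    (hbbar : IsPBlock M bbar) (hsub : ∀ η ∈ bbar, inflIrr N η ∈ b)
    (hdef : p ^ blockDefect p b = Nat.card N * p ^ blockDefect p bbar)
    {Y : Set (IrrCharacter (H ⧸ N))} (hY : Y ⊆ bbar) {m e : ℕ} (hm : Nat.card Y = m) (hm1 : 1 ≤ m)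
    (hX : Nat.card (bbar \ Y : Set (IrrCharacter (H ⧸ N))) = e)
    (hqe : m * e + 1 = p ^ blockDefect p bbar) (hrank : blockRank p bbar = e)
    {δ : IrrCharacter (H ⧸ N) → ℤ} {δ₀ : ℤ}
    (hδ : ∀ χ ∈ bbar \ Y, δ χ = 1 ∨ δ χ = -1) (hδ₀ : δ₀ = 1 ∨ δ₀ = -1)
    (hrel : ∀ ψ ∈ Y, ∀ g : H ⧸ N, ¬ p ∣ orderOf g → (δ₀ : ℂ) * (ψ : H ⧸ N → ℂ) g +
      ∑ᶠ χ ∈ bbar \ Y, (δ χ : ℂ) * (χ : H ⧸ N → ℂ) g = 0) :
    Nat.card B ≤ p ^ blockDefect p b := by
  classical
  have hpp : p.Prime := Fact.out
  have hpM := hM.2.2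
  haveI := irrFintype G
  haveI := irrFintype H
  haveI := irrFintype (H ⧸ N)
  haveI : NeZero (Nat.card G) := ⟨Nat.card_pos.ne'⟩
  have he0 : 0 < e := hrank ▸ one_le_blockRank hbbar
  have hdle : blockDefect p b ≤ (Nat.card H).factorization p := by
    rw [blockDefect]; exact Nat.sub_le _ _
  obtain ⟨c, hc, hc0⟩ : ∃ c : ℕ, p ^ (Nat.card H).factorization p =
      c * (Nat.card N * p ^ blockDefect p bbar) ∧ 0 < c :=
    ⟨p ^ ((Nat.card H).factorization p - blockDefect p b), by
      rw [← hdef, ← pow_add, Nat.sub_add_cancel hdle], pow_pos hpp.pos _⟩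
  set q := p ^ blockDefect p bbar with hq
  have hq0 : 0 < q := pow_pos hpp.pos _
  have hqC : (q : ℂ) ≠ 0 := Nat.cast_ne_zero.2 hq0.ne'
  have hcC : (c : ℂ) ≠ 0 := Nat.cast_ne_zero.2 hc0.ne'
  let I := {η // η ∈ bbar \ Y}
  have hcardI : Fintype.card I = e := by rw [← hX, Nat.card_eq_fintype_card]
  have hgram := gram_eq hpM hbbar hY hm hX hqe hrank hδ hδ₀ hrel
  have hsq : ∀ i : I, (δ i.1 : ℂ) * δ i.1 = 1 := fun i => by
    rcases hδ i.1 i.2 with h | h <;> rw [h] <;> norm_num
  have h00 : (δ₀ : ℂ) * δ₀ = 1 := by rcases hδ₀ with rfl | rfl <;> norm_num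
  rw [hdef, Nat.card_eq_fintype_card, Fintype.card_subtype]
  have hmain := card_mul_le (p := p) (x := x) hH hx hN hp (univ.filter (· ∈ B))
    (univ.filter (· ∈ bbar)) ((c ^ 2 * q * e : ℕ) : ℝ) (c ^ 2 * q ^ 2 * Nat.card N * e) ?_ ?_
  · have h1 : (univ.filter (· ∈ B)).card * (c ^ 2 * q * e) ≤ c ^ 2 * q ^ 2 * Nat.card N * e := by
      exact_mod_cast hmain
    rw [show c ^ 2 * q ^ 2 * Nat.card N * e = (Nat.card N * q) * (c ^ 2 * q * e) by ring] at h1
    exact Nat.le_of_mul_le_mul_right h1 (by positivity)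
  swap
  · rw [← blockRank_eq_sum hpM hbbar, hrank, hc]
    push_cast
    ring
  intro χ hχ
  have hχB : χ ∈ B := (mem_filter.1 hχ).2
  set f : H → ℂ := secFun H x (χ : G → ℂ) with hf
  have hfcl : IsClassFunction H f := isClassFunction_secFun hH (isClassFunction_irr χ)
  set φ : H ⧸ N → ℂ := transfer p f with hφ
  have hφcl : IsClassFunction (H ⧸ N) φ := isClassFunction_transfer hN hp hfcl
  set z : IrrCharacter (H ⧸ N) → ℂ := fun η =>
    (q : ℂ) * classInner (pRegularPart p φ) (η : H ⧸ N → ℂ) with hz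
  have hxz : ∀ η : IrrCharacter (H ⧸ N), xval p H x N χ (η : H ⧸ N → ℂ) = (c : ℂ) * z η := by
    intro η
    simp only [hz, hφ, ← card_mul_inner_inflate hN hp, xval, pInner, ← hf, hc]
    push_cast
    ring
  have hzint : ∀ η ∈ bbar, IsIntegral ℤ (z η) := by
    intro η hη
    have h := sum_inner_mul_dInt (p := p) hpM hind.1 hfcl (hsub η hη)
    rw [hdef, Nat.cast_mul, mul_comm (Nat.card N : ℂ), mul_assoc] at h
    change _ = (q : ℂ) * ((Nat.card N : ℂ) * classInner (pRegularPart p f)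
      ((η : H ⧸ N → ℂ) ∘ QuotientGroup.mk)) at h
    rw [card_mul_inner_inflate hN hp] at h
    simp only [hz, hφ]
    rw [← h]
    refine IsIntegral.sum _ fun θ _ => IsIntegral.mul ?_
      (isIntegral_algebraMap (R := ℤ) (A := ℂ) (x := dInt p b (inflIrr N η) θ))
    obtain ⟨k, hk⟩ := inner_irr_right_nat (isCharacter_restrict H (isCharacter_of_irr χ.2)) θ
    rw [hf, inner_secFun_eq hH, hk]
    refine (IsIntegral.of_pow (orderOf_pos x) (by
      rw [centralScalar_self_pow hH (pow_orderOf_eq_one x) θ]; exact isIntegral_one)).mul ?_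
    exact_mod_cast isIntegral_algebraMap (R := ℤ) (A := ℂ) (x := (k : ℤ))
  have hzmem : ∀ η : IrrCharacter (H ⧸ N), z η ∈ ℚ⟮rootN (Nat.card G)⟯ := by
    intro η
    rw [show z η = xval p H x N χ (η : H ⧸ N → ℂ) / (c : ℂ) by
      rw [hxz, mul_div_cancel_left₀ _ hcC]]
    exact div_mem (xval_mem hH χ η) (natCast_mem _ _)
  let X : I → ℂ := fun i => (δ i.1 : ℂ) * z i.1
  set Sy : ℂ := ∑ θ ∈ (univ.filter (· ∈ bbar)).filter (· ∈ Y), classInner φ (θ : H ⧸ N → ℂ) with hSy
  let D : I → ℂ := fun i => (δ i.1 : ℂ) * classInner φ (i.1 : H ⧸ N → ℂ) - (δ₀ : ℂ) * Sy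
  have hsplit : ∀ F : IrrCharacter (H ⧸ N) → ℂ, ∑ θ ∈ univ.filter (· ∈ bbar), F θ =
      ∑ θ ∈ (univ.filter (· ∈ bbar)).filter (· ∈ Y), F θ + ∑ k : I, F k.1 := by
    intro F
    rw [← Finset.sum_filter_add_sum_filter_not (univ.filter (· ∈ bbar)) (· ∈ Y)]
    congr 1
    exact Finset.sum_subtype (p := (· ∈ bbar \ Y)) _ (fun η => by simp) F
  -- the coordinates
  have hX' : ∀ j : I, X j = (q : ℂ) * D j - (m : ℂ) * ∑ k, D k := by
    intro j
    have hYl : ∀ θ ∈ Y, classInner (pRegularPart p (θ : H ⧸ N → ℂ)) (j.1 : H ⧸ N → ℂ) =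
        ∑ k : I, (-(δ₀ : ℂ) * δ k.1) *
          classInner (pRegularPart p (k.1 : H ⧸ N → ℂ)) (j.1 : H ⧸ N → ℂ) := by
      intro θ hθ
      rw [pRegularPart_of_rel hδ₀ hrel hθ, Chars.inner_sum_left]
      refine Finset.sum_congr rfl fun k _ => ?_
      rw [Chars.inner_smul_left]
      push_cast
      ring
    have h : (δ j.1 : ℂ) * classInner (pRegularPart p φ) (j.1 : H ⧸ N → ℂ) =
        ∑ k : I, D k * ((if k = j then 1 else 0) - (m : ℂ) / (q : ℂ)) := by
      rw [inner_regular_eq_block_sum hpM hbbar hφcl j.2.1, hsplit,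
        Finset.sum_congr rfl fun θ hθ => by rw [hYl θ (mem_filter.1 hθ).2], ← Finset.sum_mul, ← hSy,
        Finset.mul_sum, ← Finset.sum_add_distrib, Finset.mul_sum]
      refine Finset.sum_congr rfl fun k _ => ?_
      rw [← hgram k j]
      simp only [D]
      calc _ = (δ j.1 : ℂ) * classInner (pRegularPart p (k.1 : H ⧸ N → ℂ)) (j.1 : H ⧸ N → ℂ) *
            (((δ k.1 : ℂ) * δ k.1) * classInner φ (k.1 : H ⧸ N → ℂ) -
              (δ₀ : ℂ) * Sy * δ k.1) := by rw [hsq k]; ring
        _ = _ := by ring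
    calc X j = (q : ℂ) * ((δ j.1 : ℂ) * classInner (pRegularPart p φ) (j.1 : H ⧸ N → ℂ)) := by
          simp only [X, hz]; ring
      _ = _ := by
          rw [h]
          simp only [mul_sub, Finset.sum_sub_distrib, ← Finset.sum_mul]
          rw [Finset.sum_eq_single j (fun k _ hk => by rw [if_neg hk, mul_zero])
            (fun hk => absurd (mem_univ j) hk), if_pos rfl, mul_one]
          field_simp
  set Sx : ℂ := ∑ i, X i with hSx
  have hqC' : (q : ℂ) = 1 + (m : ℂ) * (Fintype.card I : ℂ) := by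
    rw [hcardI, ← hqe]; push_cast; ring
  have hkey : ∀ v : I → ℂ, ∑ i, ((q : ℂ) * v i - (m : ℂ) * ∑ j, v j) = ∑ i, v i := by
    intro v
    rw [Finset.sum_sub_distrib, ← Finset.mul_sum, Finset.sum_const, Finset.card_univ, nsmul_eq_mul,
      hqC']
    ring
  have hsumD : ∑ i, D i = Sx := by
    rw [hSx, Finset.sum_congr rfl fun i _ => hX' i, hkey D]
  have hqD : ∀ i, (q : ℂ) * D i = X i + (m : ℂ) * Sx := fun i => by rw [hX', hsumD]; ring
  have hXint : ∀ i, IsIntegral ℤ (X i) := fun i =>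
    (isIntegral_algebraMap (R := ℤ) (A := ℂ) (x := δ i.1)).mul (hzint i.1 i.2.1)
  have hXmem : ∀ i, X i ∈ ℚ⟮rootN (Nat.card G)⟯ := fun i =>
    mul_mem (intCast_mem _ _) (hzmem i.1)
  have hDint : ∀ i, IsIntegral ℤ (D i) := by
    intro i
    refine isIntegral_of_pow_mul (p := p) (blockDefect p bbar) _ ?_ fun M' _ hpM' => ?_
    · rw [← Nat.cast_pow, ← hq, hqD]
      exact (hXint i).add ((isIntegral_algebraMap (R := ℤ) (A := ℂ) (x := (m : ℤ))).mul
        (IsIntegral.sum _ fun j _ => hXint j))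
    · haveI : M'.IsPrime := Ideal.IsMaximal.isPrime inferInstance
      have hspan : InCharSpan (loc M') φ := inCharSpan_transfer hN hp hfcl hpM'
        fun c => char_isIntegral (isCharacter_of_irr χ.2) _
      exact sub_mem (mul_mem (intCast_mem _ _) (hspan.2 _))
        (mul_mem (intCast_mem _ _) (sum_mem fun θ _ => hspan.2 _))
  have hDmem : ∀ i, D i ∈ ℚ⟮rootN (Nat.card G)⟯ := by
    intro i
    rw [show D i = (X i + (m : ℂ) * Sx) / (q : ℂ) by rw [← hqD, mul_div_cancel_left₀ _ hqC]]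
    exact div_mem (add_mem (hXmem i) (mul_mem (natCast_mem _ _) (sum_mem fun j _ => hXmem j)))
      (natCast_mem _ _)
  -- the values on the exceptional family
  have hexc : ∀ θ ∈ Y, z θ = -(δ₀ : ℂ) * Sx := by
    intro θ hθ
    simp only [hz, hSx, X]
    rw [← classInner_pRegularPart_right, pRegularPart_of_rel hδ₀ hrel hθ, Chars.inner_sum_right,
      Finset.mul_sum, Finset.mul_sum]
    refine Finset.sum_congr rfl fun k _ => ?_
    rw [Chars.inner_smul_right, classInner_pRegularPart_right, map_intCast]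
    push_cast
    ring
  -- some coordinate is not zero
  obtain ⟨i₀, hi₀⟩ : ∃ i, D i ≠ 0 := by
    by_contra hcon
    push Not at hcon
    have hX0 : ∀ i, X i = 0 := fun i => by simp [hX', hcon]
    obtain ⟨η, hη, hne⟩ := exists_xval_ne_zero hM hH hx hind hmaj hN hp hbbar hsub hχB
    refine hne ?_
    rw [hxz]
    by_cases hY' : η ∈ Y
    · rw [hexc η hY', hSx, Finset.sum_eq_zero fun i _ => hX0 i, mul_zero, mul_zero]
    · have h2 : z η = 0 := by
        refine (mul_eq_zero.1 (hX0 ⟨η, hη, hY'⟩)).resolve_left (Int.cast_ne_zero.2 ?_)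
        rcases hδ η ⟨hη, hY'⟩ with h | h <;> rw [h] <;> norm_num
      rw [h2, mul_zero]
  -- the bound
  have hQ : ∀ k : (ZMod (Nat.card G))ˣ,
      ∑ η ∈ univ.filter (· ∈ bbar), Complex.normSq (gal k (xval p H x N χ (η : H ⧸ N → ℂ))) =
      (c : ℝ) ^ 2 * ((q : ℝ) * (∑ i, Complex.normSq (gal k (D i)) +
        (m : ℝ) / 2 * ∑ i, ∑ j, Complex.normSq (gal k (D i) - gal k (D j)))) := by
    intro k
    have hqN : q = 1 + m * Fintype.card I := by rw [hcardI, add_comm]; exact hqe.symm
    rw [← quad_complex (fun i => gal k (D i)) m q hqN, mul_add,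
      ← Finset.sum_filter_add_sum_filter_not (univ.filter (· ∈ bbar)) (· ∈ Y), add_comm]
    congr 1
    · rw [Finset.sum_subtype (p := (· ∈ bbar \ Y)) _ (fun η => by simp), Finset.mul_sum]
      refine Finset.sum_congr rfl fun i _ => ?_
      rw [← map_sum, ← map_natCast (gal k) q, ← map_natCast (gal k) m, ← map_mul, ← map_mul,
        ← map_sub, ← hX', hxz]
      simp only [X, map_mul, map_natCast, map_intCast, Complex.normSq_mul, Complex.normSq_natCast]
      rcases hδ i.1 i.2 with h | h <;> rw [h] <;> simp [pow_two]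
    · have hcardF : ((univ.filter (· ∈ bbar)).filter (· ∈ Y)).card = m := by
        rw [← hm, Nat.card_eq_fintype_card, ← Set.toFinset_card]
        congr 1
        ext η
        simp only [mem_filter, mem_univ, true_and, Set.mem_toFinset]
        exact ⟨fun h => h.2, fun h => ⟨hY h, h⟩⟩
      rw [Finset.sum_congr rfl fun η hη => by rw [hxz, hexc η (mem_filter.1 hη).2], Finset.sum_const,
        hcardF, nsmul_eq_mul]
      simp only [map_mul, map_neg, map_natCast, map_intCast, Complex.normSq_mul,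
        Complex.normSq_natCast, ← hsumD, map_sum]
      rcases hδ₀ with h | h <;> subst h <;> simp <;> ring
  have hcount := count_bound D m hm1 hi₀
  rw [hcardI] at hcount
  set Φ : ℝ := (Fintype.card (ZMod (Nat.card G))ˣ : ℝ) with hΦ
  have hΦ0 : 0 ≤ Φ := Nat.cast_nonneg _
  have hone : ∀ w : ℂ, w ∈ ℚ⟮rootN (Nat.card G)⟯ → IsIntegral ℤ w →
      Φ * (if w ≠ 0 then (1 : ℝ) else 0) ≤ ∑ k : (ZMod (Nat.card G))ˣ, Complex.normSq (gal k w) := by
    intro w hw hwi
    split_ifs with h
    · rw [mul_one]; exact totient_le_sum_normSq hw hwi h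
    · rw [mul_zero]; exact Finset.sum_nonneg fun _ _ => Complex.normSq_nonneg _
  rw [Finset.sum_congr rfl fun k _ => hQ k, ← Finset.mul_sum, ← Finset.mul_sum,
    Finset.sum_add_distrib, ← Finset.mul_sum, Nat.cast_mul, Nat.cast_mul, Nat.cast_pow,
    show Φ * ((c : ℝ) ^ 2 * (q : ℝ) * (e : ℝ)) = (c : ℝ) ^ 2 * ((q : ℝ) * (Φ * (e : ℝ))) by ring]
  refine mul_le_mul_of_nonneg_left (mul_le_mul_of_nonneg_left ?_ (Nat.cast_nonneg _)) (sq_nonneg _)
  refine le_trans (mul_le_mul_of_nonneg_left hcount hΦ0) ?_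
  rw [mul_add, mul_left_comm, Finset.mul_sum,
    Finset.sum_comm (s := (univ : Finset (ZMod (Nat.card G))ˣ)) (t := (univ : Finset I))]
  refine add_le_add (Finset.sum_le_sum fun i _ => hone _ (hDmem i) (hDint i))
    (mul_le_mul_of_nonneg_left ?_ (by positivity))
  rw [Finset.mul_sum,
    Finset.sum_comm (s := (univ : Finset (ZMod (Nat.card G))ˣ)) (t := (univ : Finset I))]
  refine Finset.sum_le_sum fun i _ => ?_
  rw [Finset.mul_sum,
    Finset.sum_comm (s := (univ : Finset (ZMod (Nat.card G))ˣ)) (t := (univ : Finset I))]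
  refine Finset.sum_le_sum fun j _ => ?_
  simp only [← map_sub, ← sub_ne_zero (a := D i)]
  exact hone _ (sub_mem (hDmem i) (hDmem j)) ((hDint i).sub (hDint j))

end Main

end CfsgLib.AbelianDefectBound
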