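import Cfsg.Agent.Lib.BlockOrth.MajorSubsection
import Cfsg.Agent.Lib.BlockOrth.ContribAverage
import Cfsg.Agent.Lib.Blocks.PairInduced
import Cfsg.Agent.Lib.Blocks.StarNonzero
import Cfsg.Agent.Lib.Blocks.TrivialInertia

/-!
# Characters of a block against the rank of a major subsection
-/

set_option autoImplicit false
set_option linter.style.haveILetI false
set_option linter.unusedSectionVars false

namespace CfsgLib.AbelianDefectBound

open Cfsg CfsgLib.Chars CfsgLib.Blocks CfsgLib.BlockOrth Finset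
open scoped ComplexConjugate IntermediateField

universe u

variable {G : Type u} [Group G] [Fintype G] {M : Ideal AlgInt} [M.IsPrime] {p : ℕ} [Fact p.Prime]
  {H : Subgroup G} [Fintype H] {x : G} {B : Set (IrrCharacter G)} {b : Set (IrrCharacter H)}

open scoped Classical in
/-- The contributions of a character of the block average at least to one. -/
theorem card_le_sum_contrib [Fintype (IrrCharacter H)] (hM : IsPModular p M)
    (hH : ∀ c : G, c ∈ H ↔ c * x = x * c) {n : ℕ} (hn : orderOf x = p ^ n)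
    (hind : IsInducedBlock M H b B) (hmaj : blockDefect p b = blockDefect p B)
    {χ : IrrCharacter G} (hχ : χ ∈ B) :
    ((unitsBelow (p ^ n)).card : ℝ) ≤
      ∑ k ∈ unitsBelow (p ^ n), (contrib p b (x ^ k) χ χ).re := by
  haveI := irrFintype G
  have hpp : p.Prime := Fact.out
  have hpM := hM.2.2
  haveI : NeZero (p ^ n) := ⟨pow_ne_zero _ hpp.ne_zero⟩
  have hx : ∃ j, orderOf x = p ^ j := ⟨n, hn⟩
  have hN : x ^ (p ^ n) = 1 := by rw [← hn]; exact pow_orderOf_eq_one x
  have hcop : ∀ k ∈ unitsBelow (p ^ n), k.Coprime (orderOf x) := fun k hk => by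
    rw [hn]; exact (mem_unitsBelow.1 hk).2
  set f : ℕ → ℂ := fun k => contrib p b (x ^ k) χ χ with hf
  have hgal : ∀ k ∈ unitsBelow (p ^ n), ∀ σ : ℂ ≃+* ℂ, (∀ z : ℂ, z ^ (p ^ n) = 1 → σ z = z ^ k) →
      σ (contrib p b x χ χ) = f k := fun k hk σ hσ => contrib_galois hH hN (hcop k hk) hσ χ χ
  obtain ⟨m, hm⟩ := exists_int_prod_conjugates (N := p ^ n) (contrib_mem_field hH hN χ χ)
    (isIntegral_contrib hH χ χ) f hgal
  obtain ⟨ψ, hψ, hψ0⟩ := exists_blockHeight_eq_zero (p := p) hind.2.1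
  have h0 : contrib p b x χ χ ≠ 0 := by
    intro h2
    have h1 := sum_norm_sq_contrib_row hM hH hx hind χ
    rw [h2, Complex.zero_re, mul_zero,
      Finset.sum_eq_zero_iff_of_nonneg fun _ _ => sq_nonneg _] at h1
    exact contrib_ne_zero_of_height_zero hpM hH hx hind hmaj hχ hψ hψ0
      (norm_eq_zero.1 (pow_eq_zero_iff (n := 2) two_ne_zero |>.1
        (h1 ψ (mem_filter.2 ⟨mem_univ _, hψ⟩))))
  have hreal : ∀ k ∈ unitsBelow (p ^ n), ((f k).re : ℂ) = f k ∧ 0 ≤ (f k).re := by
    intro k hk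
    obtain ⟨r, hr0, hr⟩ := contrib_self_eq_ofReal (p := p) hpM
      (centralizer_pow_of_coprime hH (hcop k hk)) hind.1 χ
    simp only [hf, hr, Complex.ofReal_re]
    exact ⟨trivial, hr0⟩
  have hne : ∀ k ∈ unitsBelow (p ^ n), f k ≠ 0 := fun k hk h => by
    obtain ⟨σ, hσ⟩ := CharApps.exists_galois_pow (p ^ n) (mem_unitsBelow.1 hk).2
    exact h0 (σ.injective (by rw [hgal k hk σ hσ, h, map_zero]))
  refine CharApps.card_le_sum_of_one_le_prod _ (fun k hk => (hreal k hk).2) ?_
  have hprod : ((∏ k ∈ unitsBelow (p ^ n), (f k).re : ℝ) : ℂ) = (m : ℂ) := by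
    rw [hm, Complex.ofReal_prod]
    exact Finset.prod_congr rfl fun k hk => (hreal k hk).1
  have hpos : 0 < ∏ k ∈ unitsBelow (p ^ n), (f k).re := by
    refine Finset.prod_pos fun k hk => lt_of_le_of_ne (hreal k hk).2 fun h => hne k hk ?_
    rw [← (hreal k hk).1, ← h, Complex.ofReal_zero]
  have hm' : ∏ k ∈ unitsBelow (p ^ n), (f k).re = (m : ℝ) := by exact_mod_cast hprod
  rw [hm'] at hpos ⊢
  exact_mod_cast (Int.cast_pos.1 hpos : (0 : ℤ) < m)

open scoped Classical in
/-- `k(B) ≤ p ^ d * l(b)` for a major subsection `(x, b)`. -/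
theorem card_le_pow_mul_rank (hM : IsPModular p M) (hH : ∀ c : G, c ∈ H ↔ c * x = x * c)
    (hx : ∃ n, orderOf x = p ^ n) (hind : IsInducedBlock M H b B)
    (hmaj : blockDefect p b = blockDefect p B) :
    Nat.card B ≤ p ^ blockDefect p b * blockRank p b := by
  haveI := irrFintype G
  haveI := irrFintype H
  obtain ⟨n, hn⟩ := hx
  haveI : NeZero (p ^ n) := ⟨pow_ne_zero _ (Fact.out : p.Prime).ne_zero⟩
  have hcop : ∀ k ∈ unitsBelow (p ^ n), k.Coprime (orderOf x) := fun k hk => by
    rw [hn]; exact (mem_unitsBelow.1 hk).2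
  have htot : ∀ k ∈ unitsBelow (p ^ n), ∑ χ ∈ univ.filter (· ∈ B), (contrib p b (x ^ k) χ χ).re =
      ((p ^ blockDefect p b * blockRank p b : ℕ) : ℝ) := by
    intro k hk
    rw [← Complex.re_sum, sum_contrib_self hM (centralizer_pow_of_coprime hH (hcop k hk))
      (exists_orderOf_pow_of_coprime ⟨n, hn⟩ (hcop k hk)) hind, ← Nat.cast_mul, Complex.natCast_re]
  have h1 : ∑ χ ∈ univ.filter (· ∈ B), ((unitsBelow (p ^ n)).card : ℝ) ≤
      ∑ χ ∈ univ.filter (· ∈ B), ∑ k ∈ unitsBelow (p ^ n), (contrib p b (x ^ k) χ χ).re :=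
    Finset.sum_le_sum fun χ hχ => card_le_sum_contrib hM hH hn hind hmaj (mem_filter.1 hχ).2
  rw [Finset.sum_comm (s := univ.filter (· ∈ B)), Finset.sum_congr rfl htot, Finset.sum_const,
    Finset.sum_const, ← Fintype.card_subtype, ← Nat.card_eq_fintype_card, nsmul_eq_mul,
    nsmul_eq_mul, ← Nat.cast_mul, ← Nat.cast_mul, Nat.cast_le, mul_comm (Nat.card _)] at h1
  exact Nat.le_of_mul_le_mul_left h1 (card_unitsBelow_pos (p ^ n))

/-- Below a maximal pair with abelian group the subsection of any element is major, with the same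
defect group. -/
theorem exists_subsection_of_mem (hpM : (p : AlgInt) ∈ M) (hB : IsPBlock M B) {D : Subgroup G}
    (hD : IsDefectGroup p M B D) (hab : ∀ a ∈ D, ∀ c ∈ D, a * c = c * a) (hx : x ∈ D) :
    ∃ b : Set (IrrCharacter (Subgroup.centralizer (Subgroup.zpowers x : Set G))),
      D ≤ Subgroup.centralizer (Subgroup.zpowers x : Set G) ∧
      IsInducedBlock M (Subgroup.centralizer (Subgroup.zpowers x : Set G)) b B ∧
      IsDefectGroup p M b (D.subgroupOf (Subgroup.centralizer (Subgroup.zpowers x : Set G))) := by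
  haveI := Fintype.ofFinite (Subgroup.centralizer ((Subgroup.zpowers x : Subgroup G) : Set G))
  obtain ⟨e, he⟩ := exists_pair_on_defectGroup hpM hB hD
  have hmax := isMaximal_of_defectGroup hpM hD he
  obtain ⟨b, hle⟩ := exists_below (b := ⟨D, e⟩) hpM hmax.1.1 (Subgroup.zpowers x)
    (Subgroup.zpowers_le.2 hx)
  have hQP : Subgroup.zpowers x ≤ D := Subgroup.zpowers_le.2 hx
  have hQf := below_isBrauerPair hle hmax.1.1
  have hPC := le_centralizer_of_abelian hQP hab
  have hCP : Subgroup.centralizer (D : Set G) ≤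
      Subgroup.centralizer (Subgroup.zpowers x : Set G) := centralizer_antitone hQP
  have hp : IsBrauerPairOf p M b
      (D.subgroupOf (Subgroup.centralizer (Subgroup.zpowers x : Set G))) (relBlock hPC hCP e) :=
    (isBrauerPairOf_rel_iff hpM hPC hCP hmax.1.1.1 hmax.1.1.2 hQf.2).2
      (IsNormalSubpair.mul_cut hpM (isNormalSubpair_of_below (b := ⟨D, e⟩) hpM hmax.1.1 hle
        Relation.ReflTransGen.refl hQP (hPC.trans (centralizer_le_normalizer' _))))
  exact ⟨b, hPC, isInducedBlock_zpowers hpM ((isBrauerPairOf_iff_of_below hpM hle B).2 hmax.1),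
    isDefectGroup_of_maximal hpM (isMaximal_rel_of_maximal hpM hPC hCP hmax hp)⟩

end CfsgLib.AbelianDefectBound
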