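import Cfsg.Agent.Lib.CharApps.AbelianDefectBound.Cyclic
import Cfsg.Agent.Lib.CharApps.AbelianDefectBound.RankBound
import Cfsg.Agent.Lib.Blocks.CountBound
import Cfsg.Agent.Lib.Blocks.CyclicDade

/-!
# Blocks with an abelian defect group on two or three generators

For an element `x` of the defect group `D`, the block of `C(x) / ⟨x⟩` below `B` has defect group
`D / ⟨x⟩`. Its rank bounds `k(B) / |D|`, and `k(B) ≤ |D|` when `D / ⟨x⟩` is cyclic.
-/

set_option autoImplicit false
set_option linter.style.haveILetI false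
set_option linter.unusedSectionVars false

namespace CfsgLib.AbelianDefectBound

open Cfsg CfsgLib.Chars CfsgLib.Blocks CfsgLib.BlockOrth Finset

universe u

variable {G : Type u} [Group G] [Fintype G] {M : Ideal AlgInt} [M.IsPrime] {p : ℕ} [Fact p.Prime]
  {B : Set (IrrCharacter G)} {D : Subgroup G}

theorem blockRank_le_card {K : Type*} [Group K] [Finite K] (C : Set (IrrCharacter K)) :
    blockRank p C ≤ Nat.card C := by
  classical
  haveI := Fintype.ofFinite K
  haveI := irrFintype K
  unfold blockRank
  refine (finrank_span_le_card _).trans ?_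
  rw [Set.toFinset_card, ← Nat.card_eq_fintype_card]
  exact Nat.card_image_le (Set.toFinite C)

/-- The local block at an element of an abelian defect group. -/
theorem exists_local_quotient (hM : IsPModular p M) (hB : IsPBlock M B)
    (hD : IsDefectGroup p M B D) (hab : ∀ a ∈ D, ∀ c ∈ D, a * c = c * a) (x : D) :
    ∃ (K : Type u) (_ : Group K) (_ : Fintype K) (bbar : Set (IrrCharacter K)) (π : D →* K),
      IsPBlock M bbar ∧ IsDefectGroup p M bbar π.range ∧ π x = 1 ∧
      orderOf x * Nat.card π.range = Nat.card D ∧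
      Nat.card B ≤ Nat.card D * blockRank p bbar ∧
      (IsCyclic π.range → Nat.card B ≤ Nat.card D) := by
  classical
  have hpM := hM.2.2
  have hpp : p.Prime := Fact.out
  obtain ⟨b, hDH, hind, hbD⟩ := exists_subsection_of_mem hpM hB hD hab x.2
  haveI : Fintype (Subgroup.centralizer (Subgroup.zpowers (x : G) : Set G)) := Fintype.ofFinite _
  have hH := mem_centralizer_zpowers_iff (x : G)
  have hord : ∃ k, orderOf (x : G) = p ^ k := exists_orderOf_of_mem_defectGroup hD x.2
  have hmaj := blockDefect_eq_of_major hpM hB hind.1 hD hDH hbD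
  set z : Subgroup.centralizer (Subgroup.zpowers (x : G) : Set G) := ⟨x, (hH x).2 rfl⟩ with hz
  have hN : Subgroup.zpowers z ≤ Subgroup.center _ := Subgroup.zpowers_le.2 (mem_center_of_self hH)
  haveI : (Subgroup.zpowers z).Normal := ⟨fun v hv c => by
    rw [Subgroup.mem_center_iff.1 (hN hv) c, mul_inv_cancel_right]; exact hv⟩
  haveI := Fintype.ofFinite
    (Subgroup.centralizer (Subgroup.zpowers (x : G) : Set G) ⧸ Subgroup.zpowers z)
  have hp : IsPGroup p (Subgroup.zpowers z) := by
    obtain ⟨k, hk⟩ := hord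
    exact IsPGroup.of_card (n := k) (by rw [Nat.card_zpowers, hz, Subgroup.orderOf_mk, hk])
  obtain ⟨bbar, hbbar, hsub, hdefb⟩ := exists_quotient_block _ hpM hp hind.1
  set π : D →* (Subgroup.centralizer (Subgroup.zpowers (x : G) : Set G) ⧸ Subgroup.zpowers z) :=
    (QuotientGroup.mk' (Subgroup.zpowers z)).comp (Subgroup.inclusion hDH) with hπ
  have hrange : π.range = (D.subgroupOf _).map (QuotientGroup.mk' (Subgroup.zpowers z)) := by
    rw [hπ, MonoidHom.range_comp, Subgroup.inclusion_range]
  have hDbar : IsDefectGroup p M bbar π.range := (hdefb _).2 ⟨_, hbD, hrange⟩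
  have hx1 : π x = 1 := (QuotientGroup.eq_one_iff (Subgroup.inclusion hDH x)).2
    (Subgroup.mem_zpowers z)
  have hker : π.ker = Subgroup.zpowers x := by
    ext y
    rw [MonoidHom.mem_ker, hπ, MonoidHom.comp_apply, QuotientGroup.mk'_apply,
      QuotientGroup.eq_one_iff, Subgroup.mem_zpowers_iff, Subgroup.mem_zpowers_iff]
    refine exists_congr fun i => ?_
    rw [Subtype.ext_iff, Subtype.ext_iff]
    simp [hz]
  have hcard : orderOf x * Nat.card π.range = Nat.card D := by
    rw [← Nat.card_zpowers, ← hker, ← Subgroup.index_ker, Subgroup.card_mul_index]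
  have hdD := card_defectGroup hpM hB hD
  have hdb := card_defectGroup hpM hbbar hDbar
  have hrank : blockRank p b = blockRank p bbar :=
    blockRank_eq_quotient hpM hN hp hind.1 hbbar hsub
  have hgen : Nat.card B ≤ Nat.card D * blockRank p bbar := by
    rw [hdD, ← hmaj, ← hrank]
    exact card_le_pow_mul_rank hM hH hord hind hmaj
  refine ⟨_, inferInstance, inferInstance, bbar, π, hbbar, hDbar, hx1, hcard, hgen, fun hcyc => ?_⟩
  rcases eq_or_ne π.range ⊥ with hbot | hne
  · have h0 : blockDefect p bbar = 0 := by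
      rw [hbot, Subgroup.card_bot] at hdb
      exact Nat.pow_right_injective hpp.two_le (by simpa using hdb.symm)
    have h1 := (card_block_le_pow hM 0 _ bbar hbbar h0).1 (Nat.zero_le _)
    rw [pow_zero] at h1
    exact hgen.trans ((Nat.mul_le_mul_left _ ((blockRank_le_card bbar).trans h1)).trans_eq (mul_one _))
  · obtain ⟨g, hg⟩ := exists_pair_on_defectGroup hpM hbbar hDbar
    obtain ⟨Z, fZ, L⟩ := exists_cycLocal hM (isMaximal_of_defectGroup hpM hDbar hg) hcyc hne
    obtain ⟨Y, δ, δ₀, hY, hcardY, hcardX, hl, hδ, hδ₀, -, hrel, -⟩ := L.dade_structure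
    obtain ⟨e, he⟩ : ∃ e, e = (Subgroup.centralizer (π.range : Set _)).relIndex
      (stabPair ⟨π.range, g⟩) := ⟨_, rfl⟩
    rw [← he] at hcardY hcardX hl
    rw [hdb] at hcardY
    have hm1 : 1 ≤ Nat.card Y := by
      rcases Nat.eq_zero_or_pos (Nat.card Y) with h | h
      · rw [h, zero_mul, zero_add, ← hdb] at hcardY
        exact absurd (Subgroup.card_eq_one.1 hcardY.symm) hne
      · exact h
    rw [hdD, ← hmaj]
    refine card_le_of_cyclic_structure hM hH hord hind hmaj hN hp hbbar hsub ?_ hY rfl hm1 hcardX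
      hcardY hl hδ hδ₀ hrel
    rw [hmaj, ← hdD, ← hcard, ← hdb, Nat.card_zpowers,
      show orderOf z = orderOf x from (Subgroup.orderOf_mk _ _).trans (Subgroup.orderOf_coe x)]

/-- An abelian defect group on two generators bounds the number of characters by its order. -/
theorem card_le_of_two_generators (hM : IsPModular p M) (hB : IsPBlock M B)
    (hD : IsDefectGroup p M B D) (hab : ∀ a ∈ D, ∀ c ∈ D, a * c = c * a) (a c : D)
    (hgen : Subgroup.closure {a, c} = ⊤) : Nat.card B ≤ Nat.card D := by
  obtain ⟨K, _, _, bbar, π, -, -, ha, -, -, hcyc⟩ := exists_local_quotient hM hB hD hab a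
  refine hcyc ?_
  have h : π.range = Subgroup.zpowers (π c) := by
    rw [MonoidHom.range_eq_map, ← hgen, MonoidHom.map_closure, Set.image_insert_eq,
      Set.image_singleton, ha, Subgroup.closure_insert_one, ← Subgroup.zpowers_eq_closure]
  rw [h]
  infer_instance

/-- The order of a subgroup on two commuting generators. -/
theorem card_closure_pair_le {K : Type*} [Group K] [Finite K] {a c : K} (h : Commute a c) :
    Nat.card (Subgroup.closure ({a, c} : Set K)) ≤ orderOf a * orderOf c := by
  have hcomm : ∀ (u : Subgroup.zpowers a) (v : Subgroup.zpowers c),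
      Commute ((Subgroup.zpowers a).subtype u) ((Subgroup.zpowers c).subtype v) := by
    rintro ⟨u, i, rfl⟩ ⟨v, j, rfl⟩
    exact h.zpow_zpow i j
  set φ := MonoidHom.noncommCoprod (Subgroup.zpowers a).subtype (Subgroup.zpowers c).subtype hcomm
  have hr : Subgroup.closure ({a, c} : Set K) = φ.range := by
    rw [MonoidHom.noncommCoprod_range, Subgroup.range_subtype, Subgroup.range_subtype,
      Set.insert_eq, Subgroup.closure_union, Subgroup.zpowers_eq_closure,
      Subgroup.zpowers_eq_closure]
  rw [hr, ← Nat.card_zpowers, ← Nat.card_zpowers, ← Nat.card_prod]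
  exact Nat.card_le_card_of_surjective φ.rangeRestrict φ.rangeRestrict_surjective

/-- An abelian defect group on three generators. -/
theorem card_pow_three_le_of_three_generators (hM : IsPModular p M) (hB : IsPBlock M B)
    (hD : IsDefectGroup p M B D) (hab : ∀ a ∈ D, ∀ c ∈ D, a * c = c * a) (a c c' : D)
    (hgen : Subgroup.closure {a, c, c'} = ⊤) (hc : orderOf c ≤ orderOf a)
    (hc' : orderOf c' ≤ orderOf a) : Nat.card B ^ 3 ≤ Nat.card D ^ 5 := by
  obtain ⟨K, _, _, bbar, π, hbbar, hDbar, ha, hcard, hgenB, -⟩ :=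
    exists_local_quotient hM hB hD hab a
  have hcomm : Commute c c' := Subtype.ext (hab c c.2 c' c'.2)
  have hr : π.range = Subgroup.closure ({π c, π c'} : Set K) := by
    rw [MonoidHom.range_eq_map, ← hgen, MonoidHom.map_closure, Set.image_insert_eq,
      Set.image_insert_eq, Set.image_singleton, ha, Subgroup.closure_insert_one]
  have hab' : ∀ u ∈ π.range, ∀ v ∈ π.range, u * v = v * u := by
    rintro _ ⟨u, rfl⟩ _ ⟨v, rfl⟩
    rw [← map_mul, ← map_mul, show u * v = v * u from Subtype.ext (hab u u.2 v v.2)]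
  have hgen' : Subgroup.closure ({π.rangeRestrict c, π.rangeRestrict c'} : Set π.range) = ⊤ := by
    apply Subgroup.map_injective π.range.subtype_injective
    rw [MonoidHom.map_closure, ← MonoidHom.range_eq_map, Subgroup.range_subtype]
    simp only [Set.image_insert_eq, Set.image_singleton]
    exact hr.symm
  have hl : blockRank p bbar ≤ Nat.card π.range :=
    (blockRank_le_card bbar).trans (card_le_of_two_generators hM hbbar hDbar hab' _ _ hgen')
  have hsq : Nat.card π.range ≤ orderOf a ^ 2 := by
    rw [hr]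
    refine (card_closure_pair_le (hcomm.map π)).trans ?_
    rw [pow_two]
    exact Nat.mul_le_mul ((Nat.le_of_dvd (orderOf_pos c) (orderOf_map_dvd π c)).trans hc)
      ((Nat.le_of_dvd (orderOf_pos c') (orderOf_map_dvd π c')).trans hc')
  set m := Nat.card π.range
  calc Nat.card B ^ 3 ≤ (Nat.card D * m) ^ 3 :=
        Nat.pow_le_pow_left (hgenB.trans (Nat.mul_le_mul_left _ hl)) 3
    _ = Nat.card D ^ 3 * (m ^ 2 * m) := by ring
    _ ≤ Nat.card D ^ 3 * (m ^ 2 * orderOf a ^ 2) :=
        Nat.mul_le_mul_left _ (Nat.mul_le_mul_left _ hsq)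
    _ = Nat.card D ^ 5 := by rw [← hcard]; ring

end CfsgLib.AbelianDefectBound
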